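-- helper1: project BRA (S4484), package [B4]: all conjugates of the eigenprojection commute.
import Mathlib
import Cfsg.Agent.Lib.Helper95.BRA.Defs

set_option autoImplicit false

open scoped Matrix ComplexConjugate

namespace Cfsg.Agent.Lib.Helper1.BRA

open Cfsg Cfsg.Agent.Lib.Helper74.Jordan Cfsg.Agent.Lib.Helper95.BRA

universe u

/-- the spectral projections of `X` commute with everything commuting with `X`. -/
theorem proj_commute_of_commute {n : ℕ} {X Q : Matrix (Fin n) (Fin n) ℂ} (h : Commute X Q)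
    (N i : ℕ) : Commute (proj X N i) Q := by
  unfold proj
  refine Commute.smul_left ?_ _
  refine Commute.sum_left _ _ _ fun k _ => ?_
  exact (h.smul_left _).pow_left k

/-- **[B4]** -/
theorem pkgB4 : PkgB1 → PkgB2 → PkgB3 → PkgB4.{u} := by
  intro hB1 hB2 hB3 G _ _ n U hU x j₀ hS y₁ y₂
  classical
  obtain ⟨N, hNdef⟩ : ∃ N : ℕ, N = Nat.card G := ⟨_, rfl⟩
  rw [← hNdef] at hS ⊢
  have hN : N ≠ 0 := by rw [hNdef]; exact Nat.card_pos.ne'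
  have hpow : ∀ g : G, U g ^ N = 1 := fun g => by
    rw [hNdef, ← map_pow, pow_card_eq_one', map_one]
  have hU' : ∀ g, U g * (U g)ᴴ = 1 := fun g => mul_eq_one_comm.mp (hU g)
  have hinv : ∀ y : G, U y⁻¹ = (U y)ᴴ := by
    intro y
    calc U y⁻¹ = U y⁻¹ * (U y * (U y)ᴴ) := by rw [hU', Matrix.mul_one]
      _ = (U y)ᴴ := by
        rw [← Matrix.mul_assoc, ← map_mul, inv_mul_cancel, map_one, Matrix.one_mul]
  have key : ∀ (y : G) (j : ℕ), proj (U (y * x * y⁻¹)) N j =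
      U y * proj (U x) N j * (U y)ᴴ := by
    intro y j
    have e : U (y * x * y⁻¹) = U y * U x * (U y)ᴴ := by
      rw [map_mul, map_mul, hinv]
    rw [e]
    exact proj_conj (hU' y) (hU y) N j
  have hSy : ∀ y : G, Sharp (U (y * x * y⁻¹)) N j₀ := by
    intro y
    obtain ⟨h1, h2, h3⟩ := hS
    have hz : ∀ j, proj (U x) N j = 0 → proj (U (y * x * y⁻¹)) N j = 0 := fun j h => by
      rw [key, h]; simp
    have hnz : ∀ j, proj (U (y * x * y⁻¹)) N j = 0 → proj (U x) N j = 0 := fun j h => by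
      have h' := key y j
      rw [h] at h'
      calc proj (U x) N j = (U y)ᴴ * (U y * proj (U x) N j * (U y)ᴴ) * U y := by
            simp only [Matrix.mul_assoc]
            rw [hU y, Matrix.mul_one, ← Matrix.mul_assoc, hU y, Matrix.one_mul]
        _ = 0 := by rw [← h']; simp
    exact ⟨h1, fun h => h2 (hnz j₀ h), fun j hj hne => h3 j hj (fun h => hne (hz j h))⟩
  obtain ⟨P, hP⟩ : ∃ P : Matrix (Fin n) (Fin n) ℂ, P = proj (U x) N j₀ := ⟨_, rfl⟩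
  rw [← hP]
  have keyP : ∀ y : G, proj (U (y * x * y⁻¹)) N j₀ = U y * P * (U y)ᴴ := fun y => by
    rw [hP]; exact key y j₀
  have hPcH : ∀ y : G, (U y * P * (U y)ᴴ)ᴴ = U y * P * (U y)ᴴ := by
    intro y
    rw [← keyP]
    exact proj_herm hN (hpow _) (hU _) j₀
  have hPcI : ∀ y : G, (U y * P * (U y)ᴴ) * (U y * P * (U y)ᴴ) = U y * P * (U y)ᴴ := by
    intro y
    rw [← keyP]
    exact proj_idem hN (hpow _) hS.1
  have hconj : ∀ z₁ z₂ : G, U (z₁ * x * z₁⁻¹) * (U z₂ * P * (U z₂)ᴴ) * (U (z₁ * x * z₁⁻¹))ᴴ =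
      U (z₁ * x * z₁⁻¹ * z₂) * P * (U (z₁ * x * z₁⁻¹ * z₂))ᴴ := by
    intro z₁ z₂
    rw [map_mul U (z₁ * x * z₁⁻¹) z₂, Matrix.conjTranspose_mul]
    simp only [Matrix.mul_assoc]
  by_contra hcon
  let T : Type u := {p : G × G // (U p.1 * P * (U p.1)ᴴ) * (U p.2 * P * (U p.2)ᴴ) ≠
    (U p.2 * P * (U p.2)ᴴ) * (U p.1 * P * (U p.1)ᴴ)}
  have : Nonempty T := ⟨⟨(y₁, y₂), hcon⟩⟩
  obtain ⟨⟨⟨z₁, z₂⟩, hz⟩, hmax⟩ := Finite.exists_max
    (fun p : T => ((U p.1.1 * P * (U p.1.1)ᴴ) * (U p.1.2 * P * (U p.1.2)ᴴ)).trace.re)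
  have b1 := hB1 n (U (z₁ * x * z₁⁻¹)) N j₀ hN (hpow _) (hU _) (hSy z₁)
  have b3 := hB3 n (U (z₁ * x * z₁⁻¹)) (U z₁ * P * (U z₁)ᴴ) (U z₂ * P * (U z₂)ᴴ) (hU _)
    (hPcH z₁) (hPcI z₁) (hPcH z₂) (hPcI z₂)
    (fun w => by have := (b1 w).1; rw [keyP] at this; exact this)
    (fun w h => by have := (b1 w).2.1; rw [keyP] at this; exact this h)
  obtain ⟨h_le, h_eq⟩ := b3
  rw [hconj z₁ z₂] at h_le h_eq
  by_cases hc : (U z₂ * P * (U z₂)ᴴ) * (U (z₁ * x * z₁⁻¹ * z₂) * P * (U (z₁ * x * z₁⁻¹ * z₂))ᴴ) =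
      (U (z₁ * x * z₁⁻¹ * z₂) * P * (U (z₁ * x * z₁⁻¹ * z₂))ᴴ) * (U z₂ * P * (U z₂)ᴴ)
  · have b2 := hB2 n (U (z₁ * x * z₁⁻¹)) (U z₂ * P * (U z₂)ᴴ) (hU _) (hPcH z₂) (hPcI z₂)
      (fun w hw => (b1 w).2.2 hw) (by rw [hconj z₁ z₂]; exact hc)
    have hcomm : Commute (proj (U (z₁ * x * z₁⁻¹)) N j₀) (U z₂ * P * (U z₂)ᴴ) :=
      proj_commute_of_commute b2 N j₀
    rw [keyP] at hcomm
    exact hz hcomm.eq
  · have hmax' := hmax ⟨(z₂, z₁ * x * z₁⁻¹ * z₂), hc⟩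
    have heq := le_antisymm h_le hmax'
    have h1 := h_eq heq
    have h2 : (U z₂ * P * (U z₂)ᴴ) * (U z₁ * P * (U z₁)ᴴ) = U z₂ * P * (U z₂)ᴴ := by
      have := congrArg Matrix.conjTranspose h1
      rwa [Matrix.conjTranspose_mul, hPcH, hPcH] at this
    exact hz (h1.trans h2.symm)

end Cfsg.Agent.Lib.Helper1.BRA
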